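import Cfsg.Agent.H555.MG.Core
import Cfsg.Agent.H537.OreM.Even
import Cfsg.Agent.H31.TwoCyc.MPart
import Cfsg.Agent.H19.Odd.HeEl7
import Cfsg.Agent.H573.Spor.MSeven
import Cfsg.Agent.H349.RM.Defs

/-!
# S3509, the Monster, box B5 (helper555)

* **`he7`** : `w` of order 7 with `C(w)/⟨w⟩ ≅ He`: every element of order 7 of `C(w)` commutes with an involution;
* **`t7`** : a subgroup of order divisible by `7³` contains an element of order 7 commuting with an involution.
-/

set_option autoImplicit false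
set_option maxRecDepth 100000

open Cfsg

namespace Cfsg.Agent.H555.MG

open Subgroup
open Cfsg.Agent.LThreeMB (XX Zx self fr)
open Cfsg.Agent.H19.Odd Cfsg.Agent.H19.Odd.HeEl Cfsg.Agent.FixBN.HeStab Cfsg.Agent.KFacts.He.Lv Cfsg.Agent.CpAutHe.Cnt
open Cfsg.Agent.SporadicB.HePerm (act wd)
open Cfsg.Agent.H19.Odd.HeCnt
open Cfsg.Agent.BpSpor.MBigModel (MG zz pi chart cls card_M card_cent_z card_cent_t)
open Cfsg.Agent.H349.RM (EvI)

theorem evI_of_even {x : MG} (h : 2 ∣ Nat.card ↥(centralizer ({x} : Set MG))) : EvI x := by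
  have hfin : Finite MG := BpSpor.MBigModel.finite
  have h2 : Fact (Nat.Prime 2) := ⟨Nat.prime_two⟩
  obtain ⟨t, ht⟩ := exists_prime_orderOf_dvd_card' 2 h
  exact ⟨t, by rw [Subgroup.orderOf_coe, ht], mem_centralizer_singleton_iff.1 t.2⟩

theorem evI_conj {x g : MG} (h : EvI (g * x * g⁻¹)) : EvI x := by
  obtain ⟨t, ht, htx⟩ := h
  refine ⟨g⁻¹ * t * g, ?_, ?_⟩
  · rw [← ht]
    have := MulEquiv.orderOf_eq (MulAut.conj g⁻¹) t
    rwa [MulAut.conj_apply, inv_inv] at this
  · calc g⁻¹ * t * g * x = g⁻¹ * (t * (g * x * g⁻¹)) * g := by group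
      _ = g⁻¹ * ((g * x * g⁻¹) * t) * g := by rw [htx]
      _ = x * (g⁻¹ * t * g) := by group

theorem evI_pow {x y : MG} (h : EvI x) (hy : y ∈ zpowers x) : EvI y := by
  obtain ⟨t, ht, htx⟩ := h
  obtain ⟨i, rfl⟩ := hy
  exact ⟨t, ht, ((show Commute t x from htx).zpow_right i).eq⟩

theorem sylow_he (S : Sylow 7 Spor.He) : Nat.card S = 7 ^ 3 := by
  have h7 : Fact (Nat.Prime 7) := ⟨by norm_num⟩
  have hfin : Finite Spor.He := Nat.finite_of_card_ne_zero (by rw [S1695.result.2]; norm_num)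
  obtain ⟨k, hk⟩ := IsPGroup.iff_card.1 S.2
  have h1 : 7 ^ 3 ∣ Nat.card S := by
    rw [S.card_eq_multiplicity]
    exact pow_dvd_pow 7 ((h7.out.pow_dvd_iff_le_factorization Nat.card_pos.ne').1 (by rw [S1695.result.2]; norm_num))
  have h2 : k ≤ 3 := by
    by_contra hlt
    have h3 : 7 ^ 4 ∣ Nat.card Spor.He := by
      refine (pow_dvd_pow 7 (show 4 ≤ k by omega)).trans ?_
      rw [← hk]
      exact card_subgroup_dvd_card _
    rw [S1695.result.2] at h3
    norm_num at h3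
  have h3 : k = 3 := by
    have h4 := (Nat.pow_dvd_pow_iff_le_right (by norm_num : 1 < 7)).1 (hk ▸ h1 : 7 ^ 3 ∣ 7 ^ k)
    omega
  rw [hk, h3]

/-- the 7-central elements commute with involutions -/
theorem exists_top : ∃ v : MG, orderOf v = 7 ∧ EvI v ∧ 7 ^ 6 ∣ Nat.card ↥(centralizer ({v} : Set MG)) := by
  obtain ⟨x, hx, -, hf⟩ := H31.TwoCyc.MPart.exists_full7
  refine ⟨x, by rw [Subgroup.orderOf_coe, hx], ⟨zz, BpSpor.MBigModel.orderOf_zz, ?_⟩, hf 6 (by rw [card_M]; norm_num)⟩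
  exact (mem_centralizer_singleton_iff.1 x.2).symm

/-- **Elements of order 7 in `7 × He`.** -/
theorem he7 {x w : MG} (hw : orderOf w = 7) (hN : Spor.IsoHe (XX w)) (hx : orderOf x = 7) (h : x * w = w * x) :
    EvI x := by
  have hfin : Finite MG := BpSpor.MBigModel.finite
  have h7 : Fact (Nat.Prime 7) := ⟨by norm_num⟩
  have hfinH : Finite Spor.He := Nat.finite_of_card_ne_zero (by rw [S1695.result.2]; norm_num)
  obtain ⟨e⟩ := id hN
  let D : Subgroup MG := centralizer ({w} : Set MG)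
  have hD : ∀ g, g ∈ D ↔ g * w = w * g := fun g => mem_centralizer_singleton_iff
  let φ : D →* Spor.He := e.toMonoidHom.comp (QuotientGroup.mk' (Zx w))
  have hφ : Function.Surjective φ := e.surjective.comp (QuotientGroup.mk'_surjective _)
  have hk : ∀ d, φ d = 1 ↔ (d : MG) ∈ zpowers w := by
    intro d
    have h1 : φ d = 1 ↔ d ∈ Zx w := by
      show e (QuotientGroup.mk' (Zx w) d) = 1 ↔ _
      rw [map_eq_one_iff e e.injective, QuotientGroup.mk'_apply, QuotientGroup.eq_one_iff]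
    rw [h1, Zx]
    constructor
    · rintro ⟨i, hi⟩
      exact ⟨i, congrArg Subtype.val hi⟩
    · rintro ⟨i, hi⟩
      exact ⟨i, Subtype.ext hi⟩
  have hcD : Nat.card D = 7 * 4030387200 := by
    show Nat.card ↥(centralizer ({w} : Set MG)) = _
    rw [H199.NSmMon.card_XX, hw, Nat.card_congr e.toEquiv, S1695.result.2]
  have hwE : EvI w := evI_of_even (show 2 ∣ Nat.card D by rw [hcD]; norm_num)
  have hxD : x ∈ D := (hD x).2 h
  by_cases hy1 : φ ⟨x, hxD⟩ = 1
  · exact evI_pow hwE ((hk _).1 hy1)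
  have hy : orderOf (φ ⟨x, hxD⟩) = 7 := by
    refine orderOf_eq_prime ?_ hy1
    rw [← map_pow]
    have h1 : (⟨x, hxD⟩ : D) ^ 7 = 1 := Subtype.ext (by rw [← hx]; exact pow_orderOf_eq_one x)
    rw [h1, map_one]
  rcases HeEl.seven hy with hev | ⟨g, hg⟩
  · apply evI_of_even
    refine H537.OreM.even_of_XX (x := x) (y := w) (by rw [hw]; decide) h ?_
    have h2 : Nat.card ↥(centralizer ({(QuotientGroup.mk' (Zx w) ⟨x, mem_centralizer_singleton_iff.2 h⟩ : XX w)} :
        Set (XX w))) = Nat.card ↥(centralizer ({φ ⟨x, hxD⟩} : Set Spor.He)) := by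
      refine Nat.card_congr ⟨fun a => ⟨e a, ?_⟩, fun a => ⟨e.symm a, ?_⟩, fun a => Subtype.ext (e.symm_apply_apply _),
        fun a => Subtype.ext (e.apply_symm_apply _)⟩
      · have h3 := congrArg e (mem_centralizer_singleton_iff.1 a.2)
        rw [map_mul, map_mul] at h3
        exact mem_centralizer_singleton_iff.2 h3
      · rw [mem_centralizer_singleton_iff]
        apply e.injective
        rw [map_mul, map_mul, e.apply_symm_apply]
        exact mem_centralizer_singleton_iff.1 a.2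
    rw [h2]
    exact hev
  · -- a conjugate in the centre of a Sylow subgroup
    have h343 : 7 ^ 3 ∣ Nat.card ↥(centralizer ({φ ⟨x, hxD⟩} : Set Spor.He)) := by
      rw [Heis.card_cent_eq hg]
      exact dvdC
    have hR := Heis.isPGroup_P C_pow U7_pow V7_pow C_U7 C_V7 U7_V7
    obtain ⟨S₀, hS₀⟩ := hR.exists_le_sylow
    obtain ⟨k, hk1, hk2⟩ := central_conj (n := 3) (by rw [S1695.result.2]; norm_num)
      (by rw [← hy, pow_orderOf_eq_one]) h343 S₀
    obtain ⟨d, rfl⟩ := hφ k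
    have hdw : (d : MG) * w = w * d := (hD _).1 d.2
    have hx' : (d : MG) * x * (d : MG)⁻¹ ∈ D := mul_mem (mul_mem d.2 hxD) (inv_mem d.2)
    have hφx : φ ⟨(d : MG) * x * (d : MG)⁻¹, hx'⟩ = φ d * φ ⟨x, hxD⟩ * (φ d)⁻¹ := by
      rw [← map_inv, ← map_mul, ← map_mul]
      rfl
    apply evI_conj (g := (d : MG))
    have hne : wd U7 * wd V7 ≠ wd V7 * wd U7 := by
      rw [U7_V7]
      intro h1
      have h2 : wd XC ^ 2 = 1 := by
        have h3 : wd V7 * wd U7 * wd XC ^ 2 = wd V7 * wd U7 * 1 := by rw [h1, mul_one]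
        exact mul_left_cancel h3
      have h3 := orderOf_dvd_of_pow_eq_one h2
      rw [orderOf_eq_prime C_pow C_ne] at h3
      norm_num at h3
    obtain ⟨T, hT1, hT2, hT3⟩ := core hw hD φ hφ hk (by rw [S1695.result.2]; norm_num) (by rw [card_M]; norm_num) S₀
      (sylow_he S₀) (hS₀ (Heis.mem_P_u C_U7 C_V7 U7_V7)) (hS₀ (Heis.mem_P_v C_U7 C_V7 U7_V7)) hne (x := d * x * (d : MG)⁻¹)
      hx' (by rw [hφx]; exact hk1) (by rw [hφx]; exact hk2)
    rcases hT3 with h1 | ⟨g', i, h1⟩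
    · obtain ⟨v, hv, hvE, hv6⟩ := exists_top
      obtain ⟨c, hc1, hc2⟩ := central_conj (n := 6) (by rw [card_M]; norm_num) (by rw [← hv, pow_orderOf_eq_one]) hv6 T
      obtain ⟨j, hj'⟩ := hT1 _ hc1 (by
        intro h5
        rw [conj_eq_one_iff] at h5
        rw [h5, orderOf_one] at hv
        norm_num at hv) hc2 _ hT2 h1
      have hj' : (c * v * c⁻¹) ^ j = d * x * (d : MG)⁻¹ := hj'
      rw [← hj']
      refine evI_pow (x := c * v * c⁻¹) (evI_conj (g := c⁻¹) ?_) ⟨j, rfl⟩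
      have h5 : c⁻¹ * (c * v * c⁻¹) * c⁻¹⁻¹ = v := by group
      rw [h5]
      exact hvE
    · apply evI_conj (g := g')
      rw [h1]
      exact evI_pow hwE ⟨i, by simp⟩

/-- **A large 7-subgroup contains an element commuting with an involution.** -/
theorem t7 {N : Subgroup MG} (h : 7 ^ 3 ∣ Nat.card N) : ∃ y ∈ N, orderOf y = 7 ∧ EvI y := by
  have hfin : Finite MG := BpSpor.MBigModel.finite
  obtain ⟨w, hw, hN⟩ := H573.Spor.Monster.exists_he
  have hcD : Nat.card ↥(centralizer ({w} : Set MG)) = 7 * 4030387200 := by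
    obtain ⟨e⟩ := id hN
    rw [H199.NSmMon.card_XX, hw, Nat.card_congr e.toEquiv, S1695.result.2]
  obtain ⟨g, y, hy, hyx, hyz⟩ := Cfsg.Agent.H199.NSmAbs.exists_common (G := MG) (p := 7) (n := 6) (a := 3) (b := 4)
    (by norm_num) (by rw [card_M]; norm_num) h (T := centralizer ({w} : Set MG)) (by rw [hcD]; norm_num)
    (by norm_num)
  refine ⟨y, hyx, hy, evI_conj (g := g) (he7 hw hN ?_ (mem_centralizer_singleton_iff.1 hyz))⟩
  rw [← hy]
  exact MulEquiv.orderOf_eq (MulAut.conj g) y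

end Cfsg.Agent.H555.MG
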