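import Cfsg.Agent.H555.MG.KillQ
import Cfsg.Agent.H497.MG.TC
import Cfsg.Agent.H349.RM.Defs

/-!
# S3509, the Monster: no member of order 5 or 7 commuting with an involution (helper555)

* `kill_of` : from the types of the elements of order 5 and 7 commuting with an involution.
-/

set_option autoImplicit false
set_option maxRecDepth 100000

open Cfsg

namespace Cfsg.Agent.H555.MG

open Subgroup MulAction Cfsg.Agent.H106.RC Cfsg.Agent.H873.RG Cfsg.Agent.LThreeMB
open Cfsg.Agent.BpSpor.MBigModel (MG zz)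
open Cfsg.Agent.H497.MG (TQ TB TC BoxE)
open Cfsg.Agent.H349.RM (EvI)

/-- **A cover has no member of type `TQ` or `TC`.** -/
theorem kill_member' {Ω ι : Type} [Finite Ω] [Nonempty Ω] [MulAction MG Ω] [Finite ι] (hIH : IHx (Nat.card MG))
    (hE : Env MG Ω (⊤ : Subgroup MG)) {x : ι → MG} {r : ι → ℕ} (hx : PF x r) (hc : Cov Ω x) {i : ι}
    (hi : TQ (x i) ∨ TC (x i)) (hr : r i ≠ 2) : False := by
  have hfin : Finite MG := BpSpor.MBigModel.finite
  exact H497.MG.m1' (boxE hIH hE) hx hc hi hr fun S _ _ hS hle => hIH S hS (hle.trans_lt (card_cent_lt (hx.ne i)))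

/-- **Kill** for the orders 5 and 7 -/
theorem kill_of (h5 : ∀ x : MG, orderOf x = 5 → EvI x → Spor.IsoHN (XX x) ∨ TC x)
    (h7 : ∀ x : MG, orderOf x = 7 → EvI x → Spor.IsoHe (XX x) ∨ TC x) :
    ∀ (Ω ι : Type) [Finite Ω] [Nonempty Ω] [MulAction MG Ω] [Finite ι], IHx (Nat.card MG) →
      Env MG Ω (⊤ : Subgroup MG) → ∀ (x : ι → MG) (r : ι → ℕ), PF x r → Cov Ω x → ∀ i, (r i = 5 ∨ r i = 7) →
        EvI (x i) → False := by
  intro Ω ι _ _ _ _ hIH hE x r hx hc i hi he
  have ho : orderOf (x i) = r i := by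
    have := Fact.mk (hx.prime i)
    exact orderOf_eq_prime (hx.pow i) (hx.ne i)
  refine kill_member' hIH hE hx hc (i := i) ?_ (by omega)
  rcases hi with hi | hi
  · rcases h5 _ (ho.trans hi) he with h | h
    · exact Or.inl (tq_hn h)
    · exact Or.inr h
  · rcases h7 _ (ho.trans hi) he with h | h
    · exact Or.inl (tq_he h)
    · exact Or.inr h

end Cfsg.Agent.H555.MG
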