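import Cfsg.Agent.H555.MG.ThreeFi
import Cfsg.Agent.H555.MG.He7
import Cfsg.Agent.H593.IMMonB
import Cfsg.Agent.S1698

/-!
# S3509, the Monster, box B4 (helper555)

* **`fi3`** : `y` of order 3 with `C(y)/⟨y⟩ ≅ Fi24'`: every element of order 3 of `C(y)` commutes with an involution;
* **`t4`** : a subgroup of order divisible by `3⁴` contains an element of order 3 commuting with an involution.
-/

set_option autoImplicit false
set_option maxRecDepth 100000

open Cfsg

namespace Cfsg.Agent.H555.MG

open Subgroup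
open Cfsg.Agent.LThreeMB (XX Zx self fr)
open Cfsg.Agent.BpSpor.MBigModel (MG zz pi chart cls card_M card_cent_z card_cent_t)
open Cfsg.Agent.H349.RM (EvI)

/-- **Elements of order 3 in `3.Fi24'`.** -/
theorem fi3 {x y : MG} (hy : orderOf y = 3) (hN : Spor.IsoFi24' (XX y)) (hx : orderOf x = 3) (h : x * y = y * x) :
    EvI x := by
  have hfin : Finite MG := BpSpor.MBigModel.finite
  have h3 : Fact (Nat.Prime 3) := ⟨Nat.prime_three⟩
  obtain ⟨e⟩ := id hN
  have hcD : Nat.card ↥(centralizer ({y} : Set MG)) = 3 * 1255205709190661721292800 := by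
    rw [H199.NSmMon.card_XX, hy, Nat.card_congr e.toEquiv]
    exact congrArg (3 * ·) S1698.result.2
  have hyE : EvI y := evI_of_even (by rw [hcD]; norm_num)
  set q : XX y := QuotientGroup.mk' (Zx y) ⟨x, mem_centralizer_singleton_iff.2 h⟩ with hq
  by_cases hq1 : q = 1
  · have h1 : (⟨x, mem_centralizer_singleton_iff.2 h⟩ : ↥(centralizer ({y} : Set MG))) ∈ Zx y := by
      rw [hq, QuotientGroup.mk'_apply, QuotientGroup.eq_one_iff] at hq1
      exact hq1
    rw [Zx] at h1
    obtain ⟨i, hi⟩ := h1
    exact evI_pow hyE ⟨i, congrArg Subtype.val hi⟩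
  have hqo : orderOf (e q) = 3 := by
    refine orderOf_eq_prime ?_ ?_
    · rw [← map_pow, hq, ← map_pow]
      have h1 : (⟨x, mem_centralizer_singleton_iff.2 h⟩ : ↥(centralizer ({y} : Set MG))) ^ 3 = 1 :=
        Subtype.ext (by rw [← hx]; exact pow_orderOf_eq_one x)
      rw [h1, map_one, map_one]
    · rw [Ne, map_eq_one_iff e e.injective]
      exact hq1
  apply evI_of_even
  refine H537.OreM.even_of_XX (x := x) (y := y) (by rw [hy]; decide) h ?_
  have h2 : Nat.card ↥(centralizer ({q} : Set (XX y))) = Nat.card ↥(centralizer ({e q} : Set Spor.Fi24')) := by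
    refine Nat.card_congr ⟨fun a => ⟨e a, ?_⟩, fun a => ⟨e.symm a, ?_⟩, fun a => Subtype.ext (e.symm_apply_apply _),
      fun a => Subtype.ext (e.apply_symm_apply _)⟩
    · have h3 := congrArg e (mem_centralizer_singleton_iff.1 a.2)
      rw [map_mul, map_mul] at h3
      exact mem_centralizer_singleton_iff.2 h3
    · rw [mem_centralizer_singleton_iff]
      apply e.injective
      rw [map_mul, map_mul, e.apply_symm_apply]
      exact mem_centralizer_singleton_iff.1 a.2
  rw [h2]
  exact ThreeFi.even_three hqo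

/-- **A large 3-subgroup contains an element commuting with an involution.** -/
theorem t4 {N : Subgroup MG} (h : 3 ^ 4 ∣ Nat.card N) : ∃ y ∈ N, orderOf y = 3 ∧ EvI y := by
  have hfin : Finite MG := BpSpor.MBigModel.finite
  obtain ⟨w, -, hw, -, hN⟩ := H593.IMMonB.exists_fi24
  have hcD : Nat.card ↥(centralizer ({w} : Set MG)) = 3 * 1255205709190661721292800 := by
    obtain ⟨e⟩ := id hN
    rw [H199.NSmMon.card_XX, hw, Nat.card_congr e.toEquiv]
    exact congrArg (3 * ·) S1698.result.2
  obtain ⟨g, y, hy, hyx, hyz⟩ := Cfsg.Agent.H199.NSmAbs.exists_common (G := MG) (p := 3) (n := 20) (a := 4) (b := 17)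
    (by norm_num) (by rw [card_M]; norm_num) h (T := centralizer ({w} : Set MG)) (by rw [hcD]; norm_num)
    (by norm_num)
  refine ⟨y, hyx, hy, evI_conj (g := g) (fi3 hw hN ?_ (mem_centralizer_singleton_iff.1 hyz))⟩
  rw [← hy]
  exact MulEquiv.orderOf_eq (MulAut.conj g) y

end Cfsg.Agent.H555.MG
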