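import Cfsg.Agent.BpSpor.MBigEleven
import Cfsg.Agent.H546.MFiveFull
import Cfsg.Agent.S1704
import Cfsg.Agent.NotCT.Orders
import Cfsg.Agent.KFacts.MonsterE
import Cfsg.Agent.H31.RC.Spor.Gen
import Cfsg.Agent.H873.RG.Defs
import Cfsg.Agent.Fischer.Centralizer
import Cfsg.Agent.MonsterP.Equiv

/-!
# S3509, the Monster: families commuting with an involution (helper555)

* `perfect_of_cover` : a non-split double cover of a nonabelian simple group is perfect;
* `nsa_b` : the Baby Monster is nonabelian simple and not alternating;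
* **`even_dead`** : commuting elements of different prime orders of the Monster, an involution `u` commuting with all of
  them, the member of order 2 (if any) being `u`: not a cover;
* `row_of` : `RC` for the Monster from the non-existence of covers in the model.
-/

set_option autoImplicit false
set_option maxRecDepth 100000

open Cfsg

namespace Cfsg.Agent.H555.MG

open Subgroup MulAction Cfsg.Agent.LThreeMB Cfsg.Agent.LThreeB
open Cfsg.Agent.MonsterX Cfsg.Agent.MonsterX.InstData Cfsg.Agent.MonsterP Cfsg.Agent.MonsterU Cfsg.Agent.MonsterU.Ch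
open Cfsg.Agent.MonsterN Cfsg.Agent.MonsterX.MainPack Cfsg.Agent.MonsterX.MainBasic Cfsg.Agent.MonsterX.Model
open Cfsg.Agent.H106.RC Cfsg.Agent.H873.RG
open Cfsg.Agent.BpSpor.MBigModel (MG zz pi chart cls card_M card_cent_z card_cent_t)

section gen

open scoped commutatorElement Pointwise

/-- a non-split double cover of a nonabelian simple group is perfect -/
theorem perfect_of_cover {H K : Type*} [Group H] [Group K] (h : Cfsg.IsNonsplitDoubleCover H K)
    (hK : IsSimpleGroup K) (hc : ¬ IsMulCommutative K) : commutator H = ⊤ := by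
  obtain ⟨hZ, ⟨e⟩, hn⟩ := h
  set Z := center H with hZdef
  let φ : H →* K := e.toMonoidHom.comp (QuotientGroup.mk' Z)
  have hφ : Function.Surjective φ := e.surjective.comp (QuotientGroup.mk'_surjective Z)
  have hker : φ.ker = Z := by
    ext x
    rw [MonoidHom.mem_ker]
    show e (QuotientGroup.mk' Z x) = 1 ↔ _
    rw [map_eq_one_iff e e.injective, QuotientGroup.mk'_apply, QuotientGroup.eq_one_iff]
  have h1 : (commutator H).map φ = ⊤ := by
    have h2 : (commutator H).map φ = commutator K := by
      rw [commutator_def, commutator_def, map_commutator, ← MonoidHom.range_eq_map, MonoidHom.range_eq_top.2 hφ]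
    rw [h2]
    have h3 : (commutator K).Normal := inferInstance
    rcases h3.eq_bot_or_eq_top with h4 | h4
    · exfalso
      apply hc
      refine ⟨⟨fun a b => ?_⟩⟩
      have h5 : ⁅a, b⁆ ∈ commutator K := commutator_mem_commutator (mem_top a) (mem_top b)
      rw [h4, mem_bot] at h5
      exact commutatorElement_eq_one_iff_mul_comm.1 h5
    · exact h4
  have h2 : commutator H ⊔ Z = ⊤ := by
    rw [← hker, ← comap_map_eq, h1, comap_top]
  by_cases h3 : Z ⊓ commutator H = ⊥
  · exfalso
    refine hn (commutator H) ?_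
    refine isComplement'_of_disjoint_and_mul_eq_univ (disjoint_iff.2 h3) ?_
    have h4 : ((Z ⊔ commutator H : Subgroup H) : Set H) = (Z : Set H) * (commutator H : Set H) := by
      rw [normal_mul]
    rw [← h4, sup_comm, h2]
    rfl
  · have h4 : Z ≤ commutator H := by
      have hZf : Finite Z := Nat.finite_of_card_ne_zero (by rw [hZ]; norm_num)
      have h5 : Nat.card ↥(Z ⊓ commutator H) ∣ 2 := by
        rw [← hZ]
        exact card_dvd_of_le inf_le_left
      rcases (Nat.dvd_prime Nat.prime_two).1 h5 with h6 | h6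
      · exact absurd ((Subgroup.card_eq_one).1 h6) h3
      · rw [← eq_of_le_of_card_ge (inf_le_left : Z ⊓ commutator H ≤ Z) (by rw [hZ, h6])]
        exact inf_le_right
    rw [sup_eq_left.2 h4] at h2
    exact h2

theorem eq_of_card_two {Z : Type*} [Group Z] (h : Nat.card Z = 2) {a b : Z} (ha : a ≠ 1) (hb : b ≠ 1) : a = b := by
  obtain ⟨x, y, hxy, hu⟩ := Nat.card_eq_two_iff.1 h
  have hm : ∀ c : Z, c = x ∨ c = y := by
    intro c
    have : c ∈ ({x, y} : Set Z) := by rw [hu]; trivial
    simpa using this
  rcases hm 1 with h1 | h1 <;> rcases hm a with h2 | h2 <;> rcases hm b with h3 | h3 <;> simp_all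

/-- centralizers of conjugate elements -/
def centConj {G : Type*} [Group G] {c t u : G} (h : c * t * c⁻¹ = u) :
    centralizer ({t} : Set G) ≃* centralizer ({u} : Set G) where
  toFun k := ⟨c * k * c⁻¹, by
    have hk := mem_centralizer_singleton_iff.1 k.2
    rw [mem_centralizer_singleton_iff, ← h]
    calc c * k * c⁻¹ * (c * t * c⁻¹) = c * ((k : G) * t) * c⁻¹ := by group
      _ = c * (t * k) * c⁻¹ := by rw [hk]
      _ = _ := by group⟩
  invFun k := ⟨c⁻¹ * k * c, by
    have hk : (k : G) * (c * t * c⁻¹) = (c * t * c⁻¹) * k := by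
      have h1 := mem_centralizer_singleton_iff.1 k.2
      have h2 : (k : G) * u = u * k := h1
      simpa [h] using h2
    rw [mem_centralizer_singleton_iff]
    calc c⁻¹ * k * c * t = c⁻¹ * ((k : G) * (c * t * c⁻¹)) * c := by group
      _ = c⁻¹ * ((c * t * c⁻¹) * k) * c := by rw [hk]
      _ = _ := by group⟩
  left_inv k := Subtype.ext (by show c⁻¹ * (c * k * c⁻¹) * c = (k : G); group)
  right_inv k := Subtype.ext (by show c * (c⁻¹ * k * c) * c⁻¹ = (k : G); group)
  map_mul' a b := Subtype.ext (by
    show c * ((a : G) * b) * c⁻¹ = c * a * c⁻¹ * (c * b * c⁻¹)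
    group)

/-- an alternating group of order divisible by 47 has order divisible by 43 -/
theorem not_alternating {S : Type*} [Group S] {p q : ℕ} (hp : p.Prime) (hp5 : 5 ≤ p) (hq : q.Prime) (hq2 : q ≠ 2)
    (hpq : q ≤ p) (h1 : p ∣ Nat.card S) (h2 : ¬ q ∣ Nat.card S) : ¬ IsAlternating S := by
  rintro ⟨n, hn, ⟨e⟩⟩
  rw [Nat.card_congr e.toEquiv] at h1 h2
  have h3 : Nat.card (alternatingGroup (Fin n)) * 2 = n.factorial := by
    have : Nontrivial (Fin n) := ⟨⟨⟨0, by omega⟩, ⟨1, by omega⟩, by simp⟩⟩
    have h4 := nat_card_alternatingGroup (α := Fin n)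
    rw [h4, Nat.card_eq_fintype_card, Fintype.card_fin]
    exact Nat.div_mul_cancel (Nat.dvd_factorial (by norm_num) (by omega))
  have h5 : p ≤ n := (hp.dvd_factorial).1 (h3 ▸ h1.mul_right 2)
  have h6 : q ∣ Nat.card (alternatingGroup (Fin n)) * 2 := by
    rw [h3]
    exact (hq.dvd_factorial).2 (hpq.trans h5)
  exact h2 ((((Nat.coprime_primes hq Nat.prime_two).2 hq2)).dvd_of_dvd_mul_right h6)

end gen

theorem b_card : Nat.card Spor.BabyMonster = 4154781481226426191177580544000000 :=
  NotCT.Orders.b ⟨MulEquiv.refl _⟩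

theorem b_finite : Finite Spor.BabyMonster := Nat.finite_of_card_ne_zero (by rw [b_card]; norm_num)

theorem b_simple : IsSimpleGroup Spor.BabyMonster := Cfsg.Agent.S1704.result.1

/-- the Baby Monster is nonabelian simple, not alternating -/
theorem nsa_b : NSA Spor.BabyMonster where
  simple := b_simple
  ncomm := by
    intro h
    have hf := b_finite
    have hs := b_simple
    have h1 : IsMulCommutative Spor.BabyMonster := h
    let _ : CommGroup Spor.BabyMonster := { (inferInstance : Group Spor.BabyMonster) with mul_comm := h1.is_comm.comm }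
    have h2 := IsSimpleGroup.prime_card (α := Spor.BabyMonster)
    rw [b_card] at h2
    norm_num at h2
  nalt := not_alternating (p := 47) (q := 43) (by norm_num) (by norm_num) (by norm_num) (by norm_num) (by norm_num)
    (by rw [b_card]; norm_num) (by rw [b_card]; norm_num)

/-- the centralizer of the involution of the model -/
theorem cover_t0 : Cfsg.IsNonsplitDoubleCover (centralizer ({tG LitFin.all.hG LitFin.all.hR} : Set MG))
    Cfsg.Spor.BabyMonster :=
  H546.MFiveFull.cover_t Uncond.all (NodesGrp.prel NodesU.hyp) (NodesNe.ne NodesU.hyp) NodesU.conj_ten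
    Cfsg.Agent.S1704.result

/-- **Families commuting with an involution are dead.** -/
theorem even_dead {Ω ι : Type} [Finite Ω] [Nonempty Ω] [MulAction MG Ω] [Finite ι] (hIH : IHx (Nat.card MG))
    (hE : Env MG Ω (⊤ : Subgroup MG)) {x : ι → MG} {r : ι → ℕ} (hx : PF x r) (hc : Cov Ω x) {u : MG}
    (hu : orderOf u = 2) (hcom : ∀ i, x i * u = u * x i) (h2 : ∀ i, r i = 2 → x i = u) : False := by
  have hfin : Finite MG := BpSpor.MBigModel.finite
  rcases cls hu with ⟨g, hg⟩ | ht
  · -- rule A
    have hL := H31.RC.Spor.Large.conj chart.large g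
    rw [hg] at hL
    refine H31.RC.Spor.ruleA (fun t ht => hE.exists_move ht) hx hc hL hcom h2
  · -- M-rule
    have ht' : IsConj (tG LitFin.all.hG LitFin.all.hR) u := ht
    obtain ⟨c, hc'⟩ := isConj_iff.1 ht'
    set t0 := tG LitFin.all.hG LitFin.all.hR with ht0
    have hcov := cover_t0
    rw [← ht0] at hcov
    -- the centralizer of `u`
    set M : Subgroup MG := centralizer ({u} : Set MG) with hM
    have hcovM : Cfsg.IsNonsplitDoubleCover M Spor.BabyMonster :=
      Fischer.Centralizer.isNonsplitDoubleCover_congr (centConj hc') hcov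
    obtain ⟨hZ, ⟨f⟩, hn⟩ := id hcovM
    have hperf := perfect_of_cover hcovM b_simple nsa_b.ncomm
    have hBf := b_finite
    let π : M →* Spor.BabyMonster := f.toMonoidHom.comp (QuotientGroup.mk' (center M))
    have hπ : Function.Surjective π := f.surjective.comp (QuotientGroup.mk'_surjective _)
    have huM : u ∈ M := mem_centralizer_singleton_iff.2 rfl
    have hne : M ≠ ⊤ := by
      intro h
      have h1 := card_cent_t ht
      rw [← hM, h, card_top, card_M] at h1
      norm_num at h1
    have hu1 : u ≠ 1 := by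
      rintro rfl
      rw [orderOf_one] at hu
      norm_num at hu
    refine hE.not_all hu1 fun ω => ?_
    rcases mrule_IHx hIH (N := (⊤ : Subgroup MG)) Subgroup.topEquiv (M := M) le_top hne (by
        have h1 := congrArg (Subgroup.map M.subtype) hperf
        rw [_root_.commutator_def, map_commutator, ← MonoidHom.range_eq_map, Subgroup.range_subtype] at h1
        exact h1) π hπ (by
        intro y hy
        have h1 : f (QuotientGroup.mk' (center M) y) = 1 := hy
        rw [map_eq_one_iff f f.injective, QuotientGroup.mk'_apply, QuotientGroup.eq_one_iff] at h1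
        exact h1) nsa_b hx hc (fun i => le_normalizer (mem_centralizer_singleton_iff.2 (hcom i))) ω with h | ⟨j, hj, hjω⟩
    · exact h huM
    · have hjM : x j ∈ M := mem_centralizer_singleton_iff.2 (hcom j)
      have h3 : (⟨x j, hjM⟩ : M) ∈ center M := by
        rw [mem_center_iff]
        intro m
        exact Subtype.ext (hj m m.2).symm
      have h4 : (⟨u, huM⟩ : M) ∈ center M := by
        rw [mem_center_iff]
        intro m
        exact Subtype.ext (mem_centralizer_singleton_iff.1 m.2)
      have h5 : (⟨x j, hjM⟩ : M) = ⟨u, huM⟩ := by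
        have hZf : Finite (center M) := Nat.finite_of_card_ne_zero (by rw [hZ]; norm_num)
        have hxj : (⟨⟨x j, hjM⟩, h3⟩ : center M) ≠ 1 := fun h7 => hx.ne j
          (congrArg (fun q : center M => ((q : M) : MG)) h7)
        have huu : (⟨⟨u, huM⟩, h4⟩ : center M) ≠ 1 := fun h7 => hu1 (congrArg (fun q : center M => ((q : M) : MG)) h7)
        exact congrArg Subtype.val (eq_of_card_two hZ hxj huu)
      have h6 : x j = u := congrArg Subtype.val h5
      rw [← h6]
      exact hjω

/-- **`RC` for the Monster from the non-existence of covers in the model.** -/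
theorem row_of (h : IHx (Nat.card MG) → ∀ (Ω : Type) [Finite Ω] [Nonempty Ω] [MulAction MG Ω],
      Env MG Ω (⊤ : Subgroup MG) → ∀ (ι : Type) [Finite ι] (x : ι → MG) (r : ι → ℕ), PF x r → Cov Ω x →
        CovMin Ω x → False)
    {S : Type} [Group S] [Finite S] (hS : Spor.IsoM S) (hIH : IHx (Nat.card S)) : RC S := by
  have hfin : Finite MG := BpSpor.MBigModel.finite
  have hsim : IsSimpleGroup MG := BpSpor.MBigModel.simple
  obtain ⟨e⟩ := hS
  obtain ⟨f⟩ := Cfsg.Agent.MonsterP.Equiv.equiv
  have e2 : MG ≃* S := (e.trans f).symm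
  have hcard : Nat.card S = Nat.card MG := Nat.card_congr e2.symm.toEquiv
  rw [hcard] at hIH
  refine RC.congr e2 (rc_of_noCov hsim ?_ (H867.RC.noCov_of_inner (fun α => ?_) (h hIH)))
  · intro hc
    have hc' : IsMulCommutative MG := hc
    have h1 := card_cent_z
    have h2 : centralizer ({zz} : Set MG) = ⊤ := by
      rw [eq_top_iff]
      intro g _
      exact mem_centralizer_singleton_iff.2 (hc'.is_comm.comm g zz)
    rw [h2, card_top, card_M] at h1
    norm_num at h1
  · exact Cfsg.Agent.KFacts.MonsterE.inner_model LitFin.all.hG LitFin.all.hR LitFin.all.hL LitFin.all.hO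
      LitFin.all.hT α

end Cfsg.Agent.H555.MG
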