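import Cfsg.Agent.H555.MG.Even
import Cfsg.Agent.H497.MG.Abs
import Cfsg.Agent.LThreeB.Asm
import Cfsg.Agent.S1695
import Cfsg.Agent.S1698
import Cfsg.Agent.S1700
import Cfsg.Agent.S1701

/-!
# S3509, the Monster: covers have no member `x` with `C(x)/⟨x⟩` simple (helper555)

* `boxE` : `H497.MG.BoxE` for the model; `kill_member` : no member of type `TQ` or `TB`;
* `tq_of_XX`, `kill_quot`; `nsa_th`, `nsa_fi`, `nsa_hn`, `nsa_he`, `tq_th`, `tq_fi`, `tq_hn`, `tq_he`.
-/

set_option autoImplicit false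
set_option maxRecDepth 100000

open Cfsg

namespace Cfsg.Agent.H555.MG

open Subgroup MulAction Cfsg.Agent.H106.RC Cfsg.Agent.H873.RG Cfsg.Agent.LThreeMB
open Cfsg.Agent.BpSpor.MBigModel (MG zz pi chart cls card_M card_cent_z card_cent_t)
open Cfsg.Agent.H497.MG (TQ TB BoxE)

theorem boxE {Ω : Type} [Finite Ω] [Nonempty Ω] [MulAction MG Ω] (hIH : IHx (Nat.card MG))
    (hE : Env MG Ω (⊤ : Subgroup MG)) : BoxE MG Ω :=
  fun _ _ _ _ hx hc _ hu h1 h2 => even_dead hIH hE hx hc hu (fun i => (h1 i).symm) h2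

theorem card_cent_lt {x : MG} (hx : x ≠ 1) : Nat.card ↥(centralizer ({x} : Set MG)) < Nat.card MG := by
  have hfin : Finite MG := BpSpor.MBigModel.finite
  have hsim : IsSimpleGroup MG := BpSpor.MBigModel.simple
  refine lt_of_le_of_ne (Nat.card_le_card_of_injective _ (subtype_injective _)) fun h => ?_
  have h1 : centralizer ({x} : Set MG) = ⊤ := by
    apply eq_top_of_card_eq
    exact h
  have h2 : x ∈ center MG := by
    rw [mem_center_iff]
    intro g
    exact mem_centralizer_singleton_iff.1 (h1 ▸ mem_top g)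
  rcases (inferInstance : (center MG).Normal).eq_bot_or_eq_top with h3 | h3
  · rw [h3, mem_bot] at h2
    exact hx h2
  · have h4 := card_cent_z
    have h5 : centralizer ({zz} : Set MG) = ⊤ := by
      rw [eq_top_iff]
      intro g _
      have : g ∈ center MG := h3 ▸ mem_top g
      exact mem_centralizer_singleton_iff.2 (mem_center_iff.1 this zz).symm
    rw [h5, card_top, card_M] at h4
    norm_num at h4

/-- **A cover has no member of type `TQ` or `TB`.** -/
theorem kill_member {Ω ι : Type} [Finite Ω] [Nonempty Ω] [MulAction MG Ω] [Finite ι] (hIH : IHx (Nat.card MG))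
    (hE : Env MG Ω (⊤ : Subgroup MG)) {x : ι → MG} {r : ι → ℕ} (hx : PF x r) (hc : Cov Ω x) {i : ι}
    (hi : TQ (x i) ∨ TB (x i)) (hr : r i ≠ 2) : False := by
  have hfin : Finite MG := BpSpor.MBigModel.finite
  exact H497.MG.m1 (boxE hIH hE) hx hc hi hr fun S _ _ hS hle => hIH S hS (hle.trans_lt (card_cent_lt (hx.ne i)))

theorem tq_of_XX {x : MG} {Q : Type} [Group Q] [Finite Q] (hQ : NSA Q) (hQ2 : 2 ∣ Nat.card Q)
    (e : Nonempty (XX x ≃* Q)) : TQ x := by
  obtain ⟨e⟩ := e
  refine ⟨Q, inferInstance, inferInstance, e.toMonoidHom.comp (QuotientGroup.mk' (Zx x)),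
    e.surjective.comp (QuotientGroup.mk'_surjective _), fun g => ?_, hQ, hQ2⟩
  have h1 : (e.toMonoidHom.comp (QuotientGroup.mk' (Zx x))) g = 1 ↔ g ∈ Zx x := by
    show e (QuotientGroup.mk' (Zx x) g) = 1 ↔ _
    rw [map_eq_one_iff e e.injective, QuotientGroup.mk'_apply, QuotientGroup.eq_one_iff]
  rw [h1, Zx]
  constructor
  · rintro ⟨i, hi⟩
    exact ⟨i, congrArg Subtype.val hi⟩
  · rintro ⟨i, hi⟩
    exact ⟨i, Subtype.ext hi⟩

/-- **A cover has no member `x` with `C(x)/⟨x⟩` nonabelian simple, not alternating.** -/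
theorem kill_quot {Ω ι : Type} [Finite Ω] [Nonempty Ω] [MulAction MG Ω] [Finite ι] (hIH : IHx (Nat.card MG))
    (hE : Env MG Ω (⊤ : Subgroup MG)) {x : ι → MG} {r : ι → ℕ} (hx : PF x r) (hc : Cov Ω x) (i : ι) (hr : r i ≠ 2)
    {Q : Type} [Group Q] [Finite Q] (hQ : NSA Q) (hQ2 : 2 ∣ Nat.card Q) (e : Nonempty (XX (x i) ≃* Q)) : False :=
  kill_member hIH hE hx hc (Or.inl (tq_of_XX hQ hQ2 e)) hr

theorem nsa_of {S : Type} [Group S] {n p q : ℕ} (hs : IsSimpleGroup S) (hn : Nat.card S = n) (hn1 : ¬ n.Prime)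
    (hp : p.Prime) (hp5 : 5 ≤ p) (hq : q.Prime) (hq2 : q ≠ 2) (hpq : q ≤ p) (h1 : p ∣ n) (h2 : ¬ q ∣ n) : NSA S where
  simple := hs
  ncomm := by
    intro h
    let _ : CommGroup S := { (inferInstance : Group S) with mul_comm := h.is_comm.comm }
    have h3 := IsSimpleGroup.prime_card (α := S)
    rw [hn] at h3
    exact hn1 h3
  nalt := not_alternating hp hp5 hq hq2 hpq (hn ▸ h1) (hn ▸ h2)

theorem nsa_th {S : Type} [Group S] (h : Spor.IsoTh S) : NSA S := by
  obtain ⟨e⟩ := h
  exact nsa_of (p := 31) (q := 29) ((MulEquiv.isSimpleGroup_congr e).2 S1700.result.1)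
    ((Nat.card_congr e.toEquiv).trans S1700.result.2) (by norm_num) (by norm_num) (by norm_num) (by norm_num)
    (by norm_num) (by norm_num) (by norm_num) (by norm_num)

theorem nsa_fi {S : Type} [Group S] (h : Nonempty (S ≃* Spor.Fi24')) : NSA S := by
  obtain ⟨e⟩ := h
  exact nsa_of (p := 29) (q := 19) ((MulEquiv.isSimpleGroup_congr e).2 S1698.result.1)
    ((Nat.card_congr e.toEquiv).trans S1698.result.2) (by norm_num) (by norm_num) (by norm_num) (by norm_num)
    (by norm_num) (by norm_num) (by norm_num) (by norm_num)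

theorem nsa_hn {S : Type} [Group S] (h : Spor.IsoHN S) : NSA S := by
  obtain ⟨e⟩ := h
  exact nsa_of (p := 19) (q := 17) ((MulEquiv.isSimpleGroup_congr e).2 S1701.result.1)
    ((Nat.card_congr e.toEquiv).trans S1701.result.2) (by norm_num) (by norm_num) (by norm_num) (by norm_num)
    (by norm_num) (by norm_num) (by norm_num) (by norm_num)

theorem nsa_he {S : Type} [Group S] (h : Spor.IsoHe S) : NSA S := by
  obtain ⟨e⟩ := h
  exact nsa_of (p := 17) (q := 13) ((MulEquiv.isSimpleGroup_congr e).2 S1695.result.1)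
    ((Nat.card_congr e.toEquiv).trans S1695.result.2) (by norm_num) (by norm_num) (by norm_num) (by norm_num)
    (by norm_num) (by norm_num) (by norm_num) (by norm_num)

theorem tq_th {x : MG} (h : Spor.IsoTh (XX x)) : TQ x := by
  have hf : Finite (XX x) := by
    have hfin : Finite MG := BpSpor.MBigModel.finite
    infer_instance
  refine tq_of_XX (nsa_th h) ?_ ⟨MulEquiv.refl _⟩
  obtain ⟨e⟩ := h
  rw [Nat.card_congr e.toEquiv, S1700.result.2]
  norm_num

theorem tq_fi {x : MG} (h : Nonempty (XX x ≃* Spor.Fi24')) : TQ x := by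
  have hf : Finite (XX x) := by
    have hfin : Finite MG := BpSpor.MBigModel.finite
    infer_instance
  refine tq_of_XX (nsa_fi h) ?_ ⟨MulEquiv.refl _⟩
  obtain ⟨e⟩ := h
  rw [Nat.card_congr e.toEquiv, S1698.result.2]
  norm_num

theorem tq_hn {x : MG} (h : Spor.IsoHN (XX x)) : TQ x := by
  have hf : Finite (XX x) := by
    have hfin : Finite MG := BpSpor.MBigModel.finite
    infer_instance
  refine tq_of_XX (nsa_hn h) ?_ ⟨MulEquiv.refl _⟩
  obtain ⟨e⟩ := h
  rw [Nat.card_congr e.toEquiv, S1701.result.2]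
  norm_num

theorem tq_he {x : MG} (h : Spor.IsoHe (XX x)) : TQ x := by
  have hf : Finite (XX x) := by
    have hfin : Finite MG := BpSpor.MBigModel.finite
    infer_instance
  refine tq_of_XX (nsa_he h) ?_ ⟨MulEquiv.refl _⟩
  obtain ⟨e⟩ := h
  rw [Nat.card_congr e.toEquiv, S1695.result.2]
  norm_num

end Cfsg.Agent.H555.MG
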