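import Cfsg.Agent.H842.ThreeCl
import Cfsg.Agent.H49.Four.TEight

/-!
# The elements of order 3 of `Fi24'` commute with involutions of `Fi24'` (helper555)

* **`even_three`** : the centralizer in `Fi24'` of an element of order 3 has even order.
-/

set_option autoImplicit false
set_option maxRecDepth 100000
set_option Elab.async false

namespace Cfsg.Agent.H555.MG.ThreeFi

open Cfsg Cfsg.Agent Cfsg.Agent.Fischer.Fi24RepDef Cfsg.Agent.Fischer.Fi24Rep
open Cfsg.Agent.Lib.PermNet Cfsg.Agent.Lib.PermNetPt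
open Cfsg.Agent.Fischer.Fi24Spider (word_append word_cons word_nil)
open Cfsg.Agent.Fischer.Fi24Final (sgn sgn_gen)
open Cfsg.Agent.LThreeFi24.FiveConj (eqB eq_of_eqB)
open Cfsg.Agent.R08.FiTwentyFour (mem_commutator_iff)
open Cfsg.Agent.H842.FrameK (x5w)
open Cfsg.Spor (Fi24)
open Cfsg.Spor.Fi24 (Gen)
open Subgroup

/-- the words of the representatives -/
def xr : Fin 5 → List Gen := ![[.l, .k], [.l, .k, .b, .c], LThreeFi24.TwinK.wx3, [.l, .k, .b, .c, .e, .f], x5w]

def w8 : List Gen := [.i, .h, .d, .c, .b, .a, .k, .a, .b, .c, .d, .h, .i]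

def w3 : List Gen := [.k, .l, .k]

def zw (w : List Gen) : List Gen := w ++ (x5w ++ (w ++ (x5w ++ (w ++ x5w))))

def v4 : List Gen := zw w8 ++ zw w3

/-- the words of the commuting involutions -/
def vr : Fin 5 → List Gen := ![[.b, .d], [.e, .h], [.l, .a], [.h, .j], v4]

theorem chk0 : and (eqB (vr 0 ++ vr 0) []) (eqB (vr 0 ++ xr 0) (xr 0 ++ vr 0)) = true := by decide +kernel
theorem chk1 : and (eqB (vr 1 ++ vr 1) []) (eqB (vr 1 ++ xr 1) (xr 1 ++ vr 1)) = true := by decide +kernel
theorem chk2 : and (eqB (vr 2 ++ vr 2) []) (eqB (vr 2 ++ xr 2) (xr 2 ++ vr 2)) = true := by decide +kernel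
theorem chk3 : and (eqB (vr 3 ++ vr 3) []) (eqB (vr 3 ++ xr 3) (xr 3 ++ vr 3)) = true := by decide +kernel
theorem chk4 : and (eqB (vr 4 ++ vr 4) []) (eqB (vr 4 ++ xr 4) (xr 4 ++ vr 4)) = true := by decide +kernel

theorem chk (i : Fin 5) : eqB (vr i ++ vr i) [] = true ∧ eqB (vr i ++ xr i) (xr i ++ vr i) = true := by
  have key : ∀ a b : Bool, and a b = true → a = true ∧ b = true := by decide
  fin_cases i
  · exact key _ _ chk0
  · exact key _ _ chk1
  · exact key _ _ chk2
  · exact key _ _ chk3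
  · exact key _ _ chk4

theorem nek0 : Nat.beq (winv (nw (vr 0) false) 2) 2 = false := by decide +kernel
theorem nek1 : Nat.beq (winv (nw (vr 1) false) 2914) 2914 = false := by decide +kernel
theorem nek2 : Nat.beq (winv (nw (vr 2) false) 307872) 307872 = false := by decide +kernel
theorem nek3 : Nat.beq (winv (nw (vr 3) false) 2914) 2914 = false := by decide +kernel
theorem nek4 : Nat.beq (winv (nw (vr 4) false) 0) 0 = false := by decide +kernel

theorem ne_one_of {w : List Gen} {p : ℕ} (h : Nat.beq (winv (nw w false) p) p = false) : word w ≠ 1 := by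
  intro h1
  refine Nat.ne_of_beq_eq_false h ?_
  rw [winv_eq (wok w false), ← rho_word, h1, map_one, inv_one, Equiv.Perm.one_apply]

theorem ne_vr (i : Fin 5) : word (vr i) ≠ 1 := by
  fin_cases i
  · exact ne_one_of nek0
  · exact ne_one_of nek1
  · exact ne_one_of nek2
  · exact ne_one_of nek3
  · exact ne_one_of nek4

theorem sgn_word (w : List Gen) : sgn (word w) = (-1) ^ w.length := by
  induction w with
  | nil => rw [word_nil, map_one, List.length_nil, pow_zero]
  | cons x l ih =>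
    rw [word_cons, map_mul, ih, List.length_cons, pow_succ']
    congr 1

theorem even_vr : ∀ i : Fin 5, (vr i).length % 2 = 0 := by decide

theorem X_eq (i : Fin 5) : H842.ThreeCl.X i = word (xr i) := by
  fin_cases i
  · show Fischer.Fi24Class.gen .l * Fischer.Fi24Class.gen .k = word [.l, .k]
    simp only [word_cons, word_nil, mul_one]
    rfl
  all_goals rfl

/-- the representatives commute with involutions -/
theorem comm_X (i : Fin 5) : ∃ v : Fi24, sgn v = 1 ∧ v ≠ 1 ∧ v * v = 1 ∧ Commute v (H842.ThreeCl.X i) := by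
  obtain ⟨h1, h2⟩ := chk i
  have e1 := eq_of_eqB h1
  have e2 := eq_of_eqB h2
  simp only [word_append, word_nil] at e1 e2
  refine ⟨word (vr i), ?_, ne_vr i, e1, ?_⟩
  · rw [sgn_word]
    obtain ⟨k, hk⟩ := Nat.dvd_of_mod_eq_zero (even_vr i)
    rw [hk, pow_mul, neg_one_sq, one_pow]
  · rw [X_eq]
    exact e2

theorem exists_comm {y : Fi24} (h3 : y ^ 3 = 1) (h1 : y ≠ 1) :
    ∃ v : Fi24, sgn v = 1 ∧ v ≠ 1 ∧ v * v = 1 ∧ Commute v y := by
  obtain ⟨i, g, h⟩ := H842.ThreeCl.all H49.Four.TEight.fgroup24' H49.Four.TEight.isT8 h3 h1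
  obtain ⟨v, hv, hv1, hvv, hc⟩ := comm_X i
  refine ⟨g⁻¹ * v * g, ?_, ?_, ?_, ?_⟩
  · rw [map_mul, map_mul, map_inv, hv, mul_one, inv_mul_cancel]
  · intro h2
    apply hv1
    calc v = g * (g⁻¹ * v * g) * g⁻¹ := by group
      _ = 1 := by rw [h2]; group
  · calc g⁻¹ * v * g * (g⁻¹ * v * g) = g⁻¹ * (v * v) * g := by group
      _ = 1 := by rw [hvv]; group
  · have h4 : Commute v (g * y * g⁻¹) := by
      rcases h with h | h
      · rw [h]; exact hc
      · rw [h]; exact hc.inv_right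
    show g⁻¹ * v * g * y = y * (g⁻¹ * v * g)
    calc g⁻¹ * v * g * y = g⁻¹ * (v * (g * y * g⁻¹)) * g := by group
      _ = g⁻¹ * ((g * y * g⁻¹) * v) * g := by rw [h4.eq]
      _ = y * (g⁻¹ * v * g) := by group

/-- **The centralizer in `Fi24'` of an element of order 3 has even order.** -/
theorem even_three {s : Spor.Fi24'} (hs : orderOf s = 3) : 2 ∣ Nat.card ↥(centralizer ({s} : Set Spor.Fi24')) := by
  have h3 : (s : Fi24) ^ 3 = 1 := by
    rw [← hs]
    exact congrArg Subtype.val (pow_orderOf_eq_one s)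
  have h1 : (s : Fi24) ≠ 1 := by
    intro h
    rw [show s = 1 from Subtype.ext h, orderOf_one] at hs
    norm_num at hs
  obtain ⟨v, hv, hv1, hvv, hc⟩ := exists_comm h3 h1
  let u : Spor.Fi24' := ⟨v, mem_commutator_iff.2 hv⟩
  have hu : u ∈ centralizer ({s} : Set Spor.Fi24') := by
    rw [mem_centralizer_singleton_iff]
    exact Subtype.ext hc.eq
  have h2 : orderOf (⟨u, hu⟩ : ↥(centralizer ({s} : Set Spor.Fi24'))) = 2 := by
    have hp : Fact (Nat.Prime 2) := ⟨Nat.prime_two⟩
    refine orderOf_eq_prime ?_ ?_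
    · refine Subtype.ext (Subtype.ext ?_)
      show v ^ 2 = 1
      rw [pow_two, hvv]
    · intro h
      have h5 : ((⟨u, hu⟩ : ↥(centralizer ({s} : Set Spor.Fi24'))) : Spor.Fi24') = 1 := by rw [h]; rfl
      exact hv1 (congrArg (fun z : Spor.Fi24' => (z : Fi24)) h5)
  rw [← h2]
  exact orderOf_dvd_natCard _

end Cfsg.Agent.H555.MG.ThreeFi
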